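import Groth.Prelude.Def_ProEtS
import Mathlib

/-!
Continuity of the comparison functor from the small etale site to the small pro-etale site, and of base change
between small pro-etale sites.
-/

set_option autoImplicit false
set_option backward.isDefEq.respectTransparency false
set_option backward.isDefEq.respectTransparency.types false
set_option linter.style.haveILetI false

universe u

open CategoryTheory CategoryTheory.Limits AlgebraicGeometry Opposite

namespace Groth.Agent.ProEtCont

noncomputable instance preservesFiniteLimits_bcP {X Y : Scheme.{u}} (f : X ⟶ Y) :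
    PreservesFiniteLimits (ProEtS.bcP f) := by
  have h : PreservesFiniteLimits (ProEtS.bcP f ⋙ Scheme.ProEt.forget X) := by
    let e : ProEtS.bcP f ⋙ Scheme.ProEt.forget X ≅ Scheme.ProEt.forget Y ⋙ Over.pullback f :=
      MorphismProperty.Over.pullbackCompForgetIso (P := @WeaklyEtale) (Q := ⊤) f
    exact preservesFiniteLimits_of_natIso e.symm
  exact preservesFiniteLimits_of_reflects_of_preserves (ProEtS.bcP f) (Scheme.ProEt.forget X)

noncomputable instance preservesFiniteLimits_eps (X : Scheme.{u}) : PreservesFiniteLimits (ProEtS.eps X) := by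
  have h : PreservesFiniteLimits (ProEtS.eps X ⋙ Scheme.ProEt.forget X) :=
    inferInstanceAs (PreservesFiniteLimits (Scheme.Etale.forget X))
  exact preservesFiniteLimits_of_reflects_of_preserves (ProEtS.eps X) (Scheme.ProEt.forget X)

/-- `V ×_Y X → U ×_Y X` is the base change of `V → U`. -/
theorem isPullback_bcP_map {X Y : Scheme.{u}} (f : X ⟶ Y) {U V : Y.ProEt} (g : V ⟶ U) :
    IsPullback (pullback.fst V.hom f : ((ProEtS.bcP f).obj V).left ⟶ V.left) ((ProEtS.bcP f).map g).left
      g.left (pullback.fst U.hom f : ((ProEtS.bcP f).obj U).left ⟶ U.left) := by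
  have e1 : ((ProEtS.bcP f).map g).left ≫ pullback.snd U.hom f = pullback.snd V.hom f := by
    dsimp [ProEtS.bcP]
    exact pullback.lift_snd _ _ _
  have e2 : g.left ≫ U.hom = V.hom := Over.w g.hom
  refine (IsPullback.of_right (h₁₂ := pullback.snd U.hom f) (v₁₃ := f) (h₂₂ := U.hom) ?_ ?_
    (IsPullback.of_hasPullback U.hom f).flip).flip
  · exact (congrArg₂ (fun a d => IsPullback a (pullback.fst V.hom f) f d) e1 e2).mpr
      (IsPullback.of_hasPullback V.hom f).flip
  · dsimp [ProEtS.bcP]
    exact pullback.lift_fst _ _ _

theorem coverPreserving_bcP {X Y : Scheme.{u}} (f : X ⟶ Y) :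
    Scheme.ProEt.precoverage Y ≤ (Scheme.ProEt.precoverage X).comap (ProEtS.bcP f) := by
  intro U R hR
  obtain ⟨ι, Z, g, rfl⟩ := R.exists_eq_ofArrows
  simp only [Scheme.ProEt.precoverage, Precoverage.mem_comap_iff, Presieve.map_ofArrows] at hR ⊢
  exact Precoverage.mem_coverings_of_isPullback _ hR _ _ _ fun i => (isPullback_bcP_map f (g i)).flip

theorem pCont {X Y : Scheme.{u}} (f : X ⟶ Y) : ProEtS.PCont f := by
  haveI : ∀ S : Scheme.{u}, (Scheme.ProEt.precoverage S).IsStableUnderBaseChange := fun S => by
    haveI : PreservesLimitsOfShape WalkingCospan (Scheme.ProEt.forget S ⋙ Over.forget S) :=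
      inferInstance
    exact inferInstanceAs ((Scheme.proetalePrecoverage.comap (Scheme.ProEt.forget S ⋙ Over.forget S)).IsStableUnderBaseChange)
  haveI := preservesFiniteLimits_bcP f
  exact Functor.isContinuous_toGrothendieck_of_pullbacksPreservedBy (ProEtS.bcP f) (Scheme.ProEt.precoverage Y)
    (Scheme.ProEt.precoverage X) (h := coverPreserving_bcP f)

theorem coverPreserving_eps (X : Scheme.{u}) :
    CoverPreserving X.smallEtaleTopology (Scheme.ProEt.topology X) (ProEtS.eps X) := by
  constructor
  intro U S hS
  have eX : X.smallEtaleTopology = (X.smallPretopology (P := EtCoh.etaleMP) (Q := EtCoh.etaleMP)).toGrothendieck :=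
    Scheme.smallGrothendieckTopology_eq_toGrothendieck_smallPretopology X le_rfl
  rw [eX] at hS
  replace hS := (Scheme.mem_toGrothendieck_smallPretopology U S).1 hS
  choose V g v hg hgP hv using hS
  have hmem : Presieve.ofArrows (fun x => (ProEtS.eps X).obj (V x)) (fun x => (ProEtS.eps X).map (g x)) ∈
      Scheme.ProEt.precoverage X ((ProEtS.eps X).obj U) := by
    simp only [Scheme.ProEt.precoverage, Precoverage.mem_comap_iff, Presieve.map_ofArrows]
    refine Scheme.etalePrecoverage_le_proetalePrecoverage _ ?_
    exact (Scheme.ofArrows_mem_precoverage_iff _).2 ⟨fun x => ⟨x, v x, hv x⟩, hgP⟩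
  refine GrothendieckTopology.superset_covering _ ?_ (Precoverage.generate_mem_toGrothendieck hmem)
  rw [Sieve.generate_le_iff]
  rintro _ _ ⟨x⟩
  exact Sieve.image_mem_functorPushforward _ _ (hg x)

theorem epsCont (X : Scheme.{u}) : ProEtS.EpsCont X := by
  haveI := preservesFiniteLimits_eps X
  haveI : RepresentablyFlat (ProEtS.eps X) := flat_of_preservesFiniteLimits _
  exact Functor.isContinuous_of_coverPreserving (compatiblePreservingOfFlat _ _) (coverPreserving_eps X)

end Groth.Agent.ProEtCont
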